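import Cfsg.Agent.H996.PQ.Hi
import Cfsg.Agent.Nodes.RGDChev
import Cfsg.Agent.H934.HeisChev

/-!
# The highest root group is central in `U`, split groups (helper241, task X4 of S4612)

* `cen_split`; `hi_G2`, `hi_F4`, `hi_E6`, `hi_E7`, `hi_E8`.
-/

set_option autoImplicit false

namespace Cfsg.Agent.H241.PQ

open Cfsg Cfsg.Lie Cfsg.Agent.H996.PQ
open CoxeterSystem Cfsg.Agent.ChevalleyStructure.CoxeterGeom Cfsg.Agent.Tits.Roots
open Cfsg.Agent.ChevalleyStructure Cfsg.Agent.ChevalleyStructure.CoxeterGeomTypes Cfsg.Agent.Nodes.RGDChev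
open Cfsg.Agent.ChevalleyStructure.Elts

universe u

/-- the root group of a positive root with `commTerms r s = []` for all other positive roots `r` is central in `U` -/
theorem cen_split {D : ChevalleyDatum} {l : ℕ} {M : CoxeterMatrix (Fin l)} (hp : IsType D l M) (K : Type u) [Field K]
    {W : Type*} [Group W] (cs : CoxeterSystem M W) {s : ℕ} (hs : s < D.nroots)
    (hD : ∀ r < D.nroots, r ≠ s → (∀ i, 0 ≤ vec D l r i) → D.commTerms r s = [])
    (h0 : ∀ i, 0 ≤ vec D l s i) :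
    Cen cs hp.isCartan (fun x => (XV D l K x).subgroupOf (D.group K)) (vec D l s) := by
  intro x hx hx0 a ha b hb
  obtain ⟨r, hr, rfl⟩ := (isRoot_iff hp cs x).1 hx
  have ha' : (a : GL D.Idx K) ∈ XV D l K (vec D l r) := Subgroup.mem_subgroupOf.1 ha
  have hb' : (b : GL D.Idx K) ∈ XV D l K (vec D l s) := Subgroup.mem_subgroupOf.1 hb
  rw [XV_vec hp K hr] at ha'
  rw [XV_vec hp K hs] at hb'
  obtain ⟨t, ht⟩ := (mem_rootSubgroup_iff hp.inList r _).1 ha'
  obtain ⟨u, hu⟩ := (mem_rootSubgroup_iff hp.inList s _).1 hb'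
  have ea : a = H934.HeisChev.xe hp.inList r t := Subtype.ext ht
  have eb : b = H934.HeisChev.xe hp.inList s u := Subtype.ext hu
  by_cases hrs : r = s
  · subst hrs
    rw [ea, eb, ← H934.HeisChev.xe_add, ← H934.HeisChev.xe_add, add_comm]
  · have hneg : s ≠ D.neg r := by
      intro h
      have h1 : vec D l s = - vec D l r := by rw [h, vec_neg hp hr]
      have h2 : vec D l r = 0 := by
        funext i
        have h3 := h0 i
        rw [h1, Pi.neg_apply] at h3
        have h4 := hx0 i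
        simp only [Pi.zero_apply] at h4 ⊢
        omega
      have h3 : vec D l s = vec D l r := by rw [h1, h2, neg_zero]
      exact hrs (vec_inj hp hr hs h3.symm)
    rw [ea, eb]
    exact (H934.HeisChev.comm_nil hp.inList hr hs (Ne.symm hrs) hneg
      (hD r hr hrs fun i => hx0 i) t u).symm

theorem hi_G2 : ∃ (s : ℕ) (D : Fin 2 → ℤ), s < chevG2.nroots ∧
    (∀ r < chevG2.nroots, r ≠ s → (∀ i, 0 ≤ vec chevG2 2 r i) → chevG2.commTerms r s = []) ∧
    vec chevG2 2 s = ![3, 2] ∧ Hi (cartanOf chevG2 2) 1 (vec chevG2 2 s) D :=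
  ⟨11, ![1, 3], by decide +kernel, by decide +kernel, by decide +kernel,
    ⟨by decide +kernel, by decide +kernel, by decide +kernel, by decide +kernel, by decide +kernel⟩⟩

theorem hi_F4 : ∃ (s : ℕ) (D : Fin 4 → ℤ), s < chevF4.nroots ∧
    (∀ r < chevF4.nroots, r ≠ s → (∀ i, 0 ≤ vec chevF4 4 r i) → chevF4.commTerms r s = []) ∧
    vec chevF4 4 s = ![2, 4, 3, 2] ∧ Hi (cartanOf chevF4 4) 3 (vec chevF4 4 s) D :=
  ⟨47, ![1, 1, 2, 2], by decide +kernel, by decide +kernel, by decide +kernel,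
    ⟨by decide +kernel, by decide +kernel, by decide +kernel, by decide +kernel, by decide +kernel⟩⟩

theorem hi_E6 : ∃ (s : ℕ) (D : Fin 6 → ℤ), s < chevE6.nroots ∧
    (∀ r < chevE6.nroots, r ≠ s → (∀ i, 0 ≤ vec chevE6 6 r i) → chevE6.commTerms r s = []) ∧
    vec chevE6 6 s = ![1, 2, 2, 3, 2, 1] ∧ Hi (cartanOf chevE6 6) 1 (vec chevE6 6 s) D :=
  ⟨71, fun _ => 1, by decide +kernel, by decide +kernel, by decide +kernel,
    ⟨by decide +kernel, by decide +kernel, by decide +kernel, by decide +kernel, by decide +kernel⟩⟩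

theorem hi_E7 : ∃ (s : ℕ) (D : Fin 7 → ℤ), s < chevE7.nroots ∧
    (∀ r < chevE7.nroots, r ≠ s → (∀ i, 0 ≤ vec chevE7 7 r i) → chevE7.commTerms r s = []) ∧
    vec chevE7 7 s = ![2, 2, 3, 4, 3, 2, 1] ∧ Hi (cartanOf chevE7 7) 0 (vec chevE7 7 s) D :=
  ⟨125, fun _ => 1, by decide +kernel, by decide +kernel, by decide +kernel,
    ⟨by decide +kernel, by decide +kernel, by decide +kernel, by decide +kernel, by decide +kernel⟩⟩

theorem hi_E8 : ∃ (s : ℕ) (D : Fin 8 → ℤ), s < chevE8.nroots ∧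
    (∀ r < chevE8.nroots, r ≠ s → (∀ i, 0 ≤ vec chevE8 8 r i) → chevE8.commTerms r s = []) ∧
    vec chevE8 8 s = ![2, 3, 4, 6, 5, 4, 3, 2] ∧ Hi (cartanOf chevE8 8) 7 (vec chevE8 8 s) D :=
  ⟨239, fun _ => 1, by decide +kernel, by decide +kernel, by decide +kernel,
    ⟨by decide +kernel, by decide +kernel, by decide +kernel, by decide +kernel, by decide +kernel⟩⟩

end Cfsg.Agent.H241.PQ
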